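import Cfsg.Prelude.Def_JankoFourType
import Cfsg.Agent.S5566

/-!
# Two classes of involutions in a group of Janko-four type

The statements of S5567, S5568 and S5569 are taken as hypotheses.
-/

set_option autoImplicit false
set_option linter.style.haveILetI false

namespace Cfsg.Agent.Lib.J4Recog76

open Cfsg

variable {G : Type*} [Group G] [Finite G] [IsSimpleGroup G]

/-- Exactly two classes of involutions, from the local structure of `2 ^ 11 : M24`. -/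
theorem two_classes (hG : ¬ IsMulCommutative G) {z : G} (hz : orderOf z = 2)
    (hJ : Cfsg.IsOfJankoFourTypeAt z)
    (h5567 : ∀ V : Subgroup G, Cfsg.IsElementaryAbelian 2 V → Nat.card ↥V = 2 ^ 11 →
      Subgroup.centralizer (V : Set G) ≤ V)
    (h5568 : ∀ V : Subgroup G, Cfsg.IsElementaryAbelian 2 V → Nat.card ↥V = 2 ^ 11 →
      ∃ z' t : G, z' ∈ V ∧ t ∈ V ∧ t ≠ 1 ∧ IsConj z z' ∧ ¬ IsConj z t ∧
        Set.ncard {v : G | ∃ n ∈ Subgroup.normalizer (V : Set G), n * z' * n⁻¹ = v} = 1771 ∧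
        Set.ncard {v : G | ∃ n ∈ Subgroup.normalizer (V : Set G), n * t * n⁻¹ = v} = 276)
    (h5569 : ∀ t : G, orderOf t = 2 → ¬ IsConj z t →
      ∃ V : Subgroup G, V ≤ Subgroup.centralizer ({t} : Set G) ∧ Cfsg.IsElementaryAbelian 2 V ∧
        Nat.card ↥V = 2 ^ 11) :
    ∃ x y : G, orderOf x = 2 ∧ orderOf y = 2 ∧ ¬ IsConj x y ∧
      ∀ w : G, orderOf w = 2 → IsConj w x ∨ IsConj w y := by
  haveI : Fact (Nat.Prime 2) := ⟨Nat.prime_two⟩
  have hJ' : Cfsg.IsOfJankoFourType G := ⟨z, hJ⟩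
  obtain ⟨T₀⟩ := (inferInstance : Nonempty (Sylow 2 G))
  obtain ⟨V, ⟨-, hV, hVc⟩, -⟩ := Cfsg.Agent.S5566.result hG hJ' T₀
  obtain ⟨z', t, hz'V, htV, ht1, hzz', hzt, hn1, hn2⟩ := h5568 V hV hVc
  have hord : orderOf t = 2 := orderOf_eq_prime (hV.2 t htV) ht1
  have hord' : orderOf z' = 2 := by
    obtain ⟨g, rfl⟩ := isConj_iff.mp hzz'
    exact (MulEquiv.orderOf_eq (MulAut.conj g) z).trans hz
  refine ⟨z, t, hz, hord, hzt, fun w hw => ?_⟩
  by_cases hwz : IsConj z w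
  · exact Or.inl hwz.symm
  refine Or.inr ?_
  obtain ⟨U, hUC, hU, hUc⟩ := h5569 w hw hwz
  have hwU : w ∈ U := h5567 U hU hUc (Subgroup.mem_centralizer_iff.mpr fun u hu =>
    Subgroup.mem_centralizer_singleton_iff.mp (hUC hu))
  -- all these subgroups are conjugate
  have isP : ∀ W : Subgroup G, Nat.card ↥W = 2 ^ 11 → IsPGroup 2 ↥W := fun W h => IsPGroup.of_card h
  obtain ⟨S, hS⟩ := (isP U hUc).exists_le_sylow
  obtain ⟨S', hS'⟩ := (isP V hVc).exists_le_sylow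
  obtain ⟨g, hg⟩ := MulAction.exists_smul_eq G S S'
  obtain ⟨X, -, huniq⟩ := Cfsg.Agent.S5566.result hG hJ' S'
  set U' := U.map (MulAut.conj g).toMonoidHom with hU'
  have hU'card : Nat.card ↥U' = 2 ^ 11 := by
    rw [hU', Subgroup.card_map_of_injective (f := (MulAut.conj g).toMonoidHom) (MulAut.conj g).injective,
      hUc]
  have hU'el : Cfsg.IsElementaryAbelian 2 U' := by
    refine ⟨?_, ?_⟩
    · refine ⟨⟨?_⟩⟩
      rintro ⟨_, a, ha, rfl⟩ ⟨_, b, hb, rfl⟩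
      haveI := hU.1
      have hab : a * b = b * a := congrArg Subtype.val
        (IsMulCommutative.is_comm.comm (⟨a, ha⟩ : ↥U) ⟨b, hb⟩)
      apply Subtype.ext
      change (MulAut.conj g) a * (MulAut.conj g) b = (MulAut.conj g) b * (MulAut.conj g) a
      rw [← map_mul, hab, map_mul]
    · rintro _ ⟨a, ha, rfl⟩
      rw [← map_pow, hU.2 a ha, map_one]
  have hU'S : U' ≤ (S' : Subgroup G) := by
    rw [← hg]
    exact Subgroup.map_mono hS
  have hVU : U' = V := (huniq U' ⟨hU'S, hU'el, hU'card⟩).trans (huniq V ⟨hS', hV, hVc⟩).symm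
  have hw'V : g * w * g⁻¹ ∈ V := hVU ▸ ⟨w, hwU, rfl⟩
  -- the two orbits fill `V`
  set A := {v : G | ∃ n ∈ Subgroup.normalizer (V : Set G), n * z' * n⁻¹ = v}
  set B := {v : G | ∃ n ∈ Subgroup.normalizer (V : Set G), n * t * n⁻¹ = v}
  have hsub : ∀ {a : G}, a ∈ V → a ≠ 1 →
      ∀ v ∈ {v : G | ∃ n ∈ Subgroup.normalizer (V : Set G), n * a * n⁻¹ = v}, v ∈ (V : Set G) \ {1} := by
    rintro a ha ha1 v ⟨n, hn, rfl⟩
    exact ⟨(Subgroup.mem_normalizer_iff.mp hn a).mp ha, fun h => ha1 (conj_eq_one_iff.mp h)⟩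
  have hdisj : Disjoint A B := Set.disjoint_left.mpr (by
    rintro v ⟨n, -, rfl⟩ ⟨m, -, hm⟩
    refine hzt (hzz'.trans ?_)
    exact (isConj_iff.mpr ⟨n, rfl⟩).trans (isConj_iff.mpr ⟨m, hm⟩).symm)
  have hz'1 : z' ≠ 1 := fun h => by rw [h, orderOf_one] at hord'; norm_num at hord'
  have hle : A ∪ B ⊆ (V : Set G) \ {1} :=
    Set.union_subset (hsub hz'V hz'1) (hsub htV ht1)
  have heq : A ∪ B = (V : Set G) \ {1} := by
    refine Set.eq_of_subset_of_ncard_le hle (le_of_eq ?_) (Set.toFinite _)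
    rw [Set.ncard_union_eq hdisj (Set.toFinite _) (Set.toFinite _), hn1, hn2,
      Set.ncard_sdiff (Set.singleton_subset_iff.mpr V.one_mem) (Set.toFinite _), Set.ncard_singleton,
      ← Nat.card_coe_set_eq, show Nat.card ↥(V : Set G) = 2 ^ 11 from hVc]
    norm_num
  have hmem : g * w * g⁻¹ ∈ A ∪ B := by
    rw [heq]
    exact ⟨hw'V, fun h => by rw [conj_eq_one_iff.mp h, orderOf_one] at hw; norm_num at hw⟩
  have hcw : IsConj w (g * w * g⁻¹) := isConj_iff.mpr ⟨g, rfl⟩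
  rcases hmem with ⟨n, -, hn⟩ | ⟨n, -, hn⟩
  · exact absurd ((hzz'.trans (isConj_iff.mpr ⟨n, hn⟩)).trans hcw.symm) hwz
  · exact hcw.trans (isConj_iff.mpr ⟨n, hn⟩).symm

end Cfsg.Agent.Lib.J4Recog76
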