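import Cfsg.Agent.Lib.J4Local.AutModel

/-!
# An element of order eleven of M22 inverted in Aut M22
-/

set_option autoImplicit false
set_option linter.style.haveILetI false

namespace Cfsg.Agent.Lib.J4Recog76

open Cfsg Cfsg.Agent.Lib.Golay Cfsg.Agent.Lib.Computation
open Cfsg.Agent.Lib.J4Local Cfsg.Agent.Lib.J4Local.AutModel

theorem exists_invert : ∃ x u : AutM22, orderOf x = 11 ∧ u * x * u⁻¹ = x⁻¹ := by
  set c := OutTrivial.M22Cert.data.x with hc
  have hs : OutTrivial.M22Cert.data.spec.ok = true := by decide +kernel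
  have hxm : OutTrivial.M22Cert.data.spec.mem c = true := by decide +kernel
  have h11 : (Nat.beq (OutTrivial.cpow c 11) oneCode && OutTrivial.notOne c) = true := by
    decide +kernel
  simp only [Bool.and_eq_true, Nat.beq_eq] at h11
  obtain ⟨hxo, hxM, hxfix, -⟩ := OutTrivial.Spec.mem_spec hs hxm
  have hxK : gperm c ∈ Spor.M22 := mem_m22.mpr ⟨hxM,
    idx_injective (hxfix 23 (by decide +kernel)), idx_injective (hxfix 0 (by decide +kernel))⟩
  obtain ⟨ho, -, -⟩ := oPerm_mem
  have hr := outer_relation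
  simp only [Bool.and_eq_true, Nat.beq_eq] at hr
  have hoo : okCode oCode = true := by decide +kernel
  have hrel : gperm oCode * gperm c = gperm (OutTrivial.cpow c 10) * gperm oCode := by
    rw [← gperm_mul hoo hxo, ← gperm_mul hr.2 hoo]
    exact congrArg gperm hr.1
  have p10 : gperm (OutTrivial.cpow c 10) = gperm c ^ 10 := (powCode hxo 10).2
  have p11 : gperm c ^ 11 = 1 := by
    rw [← (powCode hxo 11).2]
    change gperm (OutTrivial.cpow c 11) = 1
    rw [h11.1, gperm_oneCode]
  let xb : ↥big := ⟨gperm c, m22_le hxK⟩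
  let ub : ↥big := ⟨gperm oCode, ho⟩
  have hxb : xb ^ 11 = 1 := Subtype.ext (by simpa [xb] using p11)
  have hne : xb ≠ 1 := by
    intro h
    have h1 : gperm c = 1 := congrArg Subtype.val h
    obtain ⟨i, hi, hne⟩ := List.any_eq_true.1 h11.2
    have hi' : i < 24 := List.mem_range.1 hi
    have h2 := idx_gperm hxo (pt i)
    rw [h1, Equiv.Perm.one_apply, idx_pt hi'] at h2
    rw [← h2, Nat.beq_refl] at hne
    exact Bool.false_ne_true hne
  haveI : Fact (Nat.Prime 11) := ⟨by norm_num⟩
  have hord : orderOf xb = 11 := orderOf_eq_prime hxb hne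
  have hconj : ub * xb * ub⁻¹ = xb⁻¹ := by
    have hinv : xb⁻¹ = xb ^ 10 := inv_eq_of_mul_eq_one_right (by rw [← pow_succ', hxb])
    rw [hinv]
    apply Subtype.ext
    simp only [Subgroup.coe_mul, Subgroup.coe_inv, SubgroupClass.coe_pow, xb, ub]
    rw [mul_inv_eq_iff_eq_mul, hrel, p10]
  refine ⟨toAut xb, toAut ub, ?_, ?_⟩
  · rw [MulEquiv.orderOf_eq, hord]
  · rw [← map_inv, ← map_mul, ← map_mul, hconj, map_inv]

end Cfsg.Agent.Lib.J4Recog76
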