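import Cfsg.Agent.Lib.J4Recog76.Module
import Cfsg.Agent.Lib.J4Recog76.Outer
import Cfsg.Agent.Lib.Coprime.Conjugacy

/-!
# The centraliser hypotheses of the J4 recognition inside the centraliser

`C` plays the centraliser, `z` its central involution, `Q ≤ N ≤ M` the given normal subgroups.
-/

set_option autoImplicit false
set_option linter.style.haveILetI false

namespace Cfsg.Agent.Lib.J4Recog76

open Cfsg.Agent.Lib.J4Local
open scoped commutatorElement Pointwise

variable {C : Type*} [Group C]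

/-- An extraspecial subgroup of order `2 ^ 13` containing its centraliser. -/
structure Base (z : C) (Q : Subgroup C) : Prop where
  normal : Q.Normal
  central : ∀ c : C, Commute c z
  mem : z ∈ Q
  sq : z * z = 1
  card : Nat.card ↥Q = 2 ^ 13
  centre : ∀ q ∈ Q, (∀ p ∈ Q, Commute p q) → q = 1 ∨ q = z
  conj : ∀ q ∈ Q, ∀ v ∈ Q, q * v * q⁻¹ = v ∨ q * v * q⁻¹ = v * z
  square : ∀ q ∈ Q, q * q = 1 ∨ q * q = z
  self_centralizing : ∀ c, (∀ q ∈ Q, Commute q c) → c ∈ Q
  card_centre : Nat.card ↥(Subgroup.center ↥Q) = 2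

namespace Base

variable {z : C} {Q : Subgroup C}

theorem mem_center_iff (B : Base z Q) (q : ↥Q) :
    q ∈ Subgroup.center ↥Q ↔ (q : C) = 1 ∨ (q : C) = z := by
  rw [Subgroup.mem_center_iff]
  constructor
  · intro h
    exact B.centre q q.2 fun p hp => congrArg Subtype.val (h ⟨p, hp⟩)
  · rintro (h | h) p <;> apply Subtype.ext <;> simp only [Subgroup.coe_mul, h]
    · rw [mul_one, one_mul]
    · exact (B.central p).eq

/-- The quotient of `Q` by its centre, written additively. -/
abbrev Bar (_ : Base z Q) : Type _ := Additive (↥Q ⧸ Subgroup.center ↥Q)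

theorem bar_comm (B : Base z Q) (a b : ↥Q ⧸ Subgroup.center ↥Q) : a * b = b * a := by
  induction a using QuotientGroup.induction_on with | H a => ?_
  induction b using QuotientGroup.induction_on with | H b => ?_
  rw [← QuotientGroup.mk_mul, ← QuotientGroup.mk_mul, QuotientGroup.eq, B.mem_center_iff]
  have key : (((a * b)⁻¹ * (b * a) : ↥Q) : C) =
      ((b : C)⁻¹ * (a : C)⁻¹ * b * a) := by simp [mul_assoc]
  rw [key]
  rcases B.conj (b : C)⁻¹ (inv_mem b.2) (a : C)⁻¹ (inv_mem a.2) with h | h <;> rw [inv_inv] at h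
  · left; rw [h, inv_mul_cancel]
  · right
    rw [h, mul_assoc, ← (B.central a).eq, ← mul_assoc, inv_mul_cancel, one_mul]

/-- The additive group structure on the quotient. -/
@[reducible] noncomputable def barGroup (B : Base z Q) : AddCommGroup B.Bar :=
  { (inferInstance : AddGroup B.Bar) with add_comm := fun a b => B.bar_comm a b }

theorem bar_two (B : Base z Q) (a : B.Bar) : a + a = 0 := by
  obtain ⟨a, rfl⟩ := QuotientGroup.mk_surjective (Additive.toMul a : ↥Q ⧸ Subgroup.center ↥Q) |>.imp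
    fun q hq => (show Additive.ofMul (QuotientGroup.mk q : ↥Q ⧸ Subgroup.center ↥Q) = a from
      congrArg Additive.ofMul hq)
  change Additive.ofMul ((a : ↥Q ⧸ Subgroup.center ↥Q) * (a : ↥Q ⧸ Subgroup.center ↥Q)) = Additive.ofMul 1
  rw [← QuotientGroup.mk_mul, (QuotientGroup.eq_one_iff (N := Subgroup.center ↥Q) (a * a)).mpr
    ((B.mem_center_iff _).mpr (B.square a a.2))]

/-- The two-element field acts. -/
@[reducible] noncomputable def barModule (B : Base z Q) :
    @Module (ZMod 2) B.Bar _ B.barGroup.toAddCommMonoid :=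
  @AddCommGroup.zmodModule 2 B.Bar B.barGroup fun a => by
    letI := B.barGroup
    rw [two_nsmul]
    exact B.bar_two a

theorem card_bar [Finite C] (B : Base z Q) : Nat.card B.Bar = 2 ^ 12 := by
  have h := Subgroup.card_eq_card_quotient_mul_card_subgroup (Subgroup.center ↥Q)
  rw [B.card, B.card_centre] at h
  change Nat.card (↥Q ⧸ Subgroup.center ↥Q) = 2 ^ 12
  omega

/-- Conjugation on `Q` modulo its centre. -/
noncomputable def conjBar (B : Base z Q) (c : C) :
    (↥Q ⧸ Subgroup.center ↥Q) →* (↥Q ⧸ Subgroup.center ↥Q) :=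
  haveI := B.normal
  QuotientGroup.map _ _ (MulAut.conjNormal c).toMonoidHom (by
    intro q hq
    rw [Subgroup.mem_comap, B.mem_center_iff]
    rw [B.mem_center_iff] at hq
    change c * q * c⁻¹ = 1 ∨ c * q * c⁻¹ = z
    rcases hq with h | h <;> rw [h]
    · left; simp
    · right; rw [(B.central c).eq, mul_inv_cancel_right])

theorem conjBar_mk (B : Base z Q) (c : C) (q : ↥Q) (h : c * q * c⁻¹ ∈ Q) :
    B.conjBar c (QuotientGroup.mk q) = QuotientGroup.mk ⟨c * q * c⁻¹, h⟩ := rfl

theorem conjBar_mul (B : Base z Q) (c d : C) (a : ↥Q ⧸ Subgroup.center ↥Q) :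
    B.conjBar (c * d) a = B.conjBar c (B.conjBar d a) := by
  induction a using QuotientGroup.induction_on with | H q => ?_
  rw [B.conjBar_mk _ q (B.normal.conj_mem _ q.2 _), B.conjBar_mk d q (B.normal.conj_mem _ q.2 _),
    B.conjBar_mk c _ (B.normal.conj_mem _ (B.normal.conj_mem _ q.2 _) _)]
  congr 1
  apply Subtype.ext
  simp [mul_assoc]

theorem conjBar_one (B : Base z Q) (a : ↥Q ⧸ Subgroup.center ↥Q) : B.conjBar 1 a = a := by
  induction a using QuotientGroup.induction_on with | H q => ?_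
  rw [B.conjBar_mk 1 q (B.normal.conj_mem _ q.2 _)]
  congr 1
  apply Subtype.ext
  simp

/-- The linear action of `C` on `Q` modulo its centre. -/
noncomputable def rho (B : Base z Q) :
    letI := B.barGroup
    letI := B.barModule
    C →* Module.End (ZMod 2) B.Bar :=
  letI := B.barGroup
  letI := B.barModule
  { toFun := fun c => AddMonoidHom.toZModLinearMap 2
      ({ toFun := fun a => Additive.ofMul (B.conjBar c (Additive.toMul a))
         map_zero' := congrArg Additive.ofMul (map_one (B.conjBar c))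
         map_add' := fun a b => congrArg Additive.ofMul
           (map_mul (B.conjBar c) (Additive.toMul a) (Additive.toMul b)) } : B.Bar →+ B.Bar)
    map_one' := LinearMap.ext fun a => congrArg Additive.ofMul (B.conjBar_one _)
    map_mul' := fun c d => LinearMap.ext fun a => congrArg Additive.ofMul (B.conjBar_mul c d _) }

theorem rho_eq_one_iff (B : Base z Q) (c : C) :
    B.rho c = 1 ↔ ∀ q ∈ Q, c * q * c⁻¹ = q ∨ c * q * c⁻¹ = q * z := by
  letI := B.barGroup
  letI := B.barModule
  have key : ∀ (q : C) (hq : q ∈ Q), B.conjBar c (QuotientGroup.mk ⟨q, hq⟩) = QuotientGroup.mk ⟨q, hq⟩ ↔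
      (c * q * c⁻¹ = q ∨ c * q * c⁻¹ = q * z) := by
    intro q hq
    rw [eq_comm, B.conjBar_mk c ⟨q, hq⟩ (B.normal.conj_mem _ hq _), QuotientGroup.eq, B.mem_center_iff]
    simp only [Subgroup.coe_mul, Subgroup.coe_inv, inv_mul_eq_iff_eq_mul, mul_one]
  constructor
  · intro h q hq
    exact (key q hq).mp (congrArg Additive.toMul
      (LinearMap.congr_fun h (Additive.ofMul (QuotientGroup.mk ⟨q, hq⟩))))
  · intro h
    refine LinearMap.ext fun a => ?_
    obtain ⟨q, hq⟩ := QuotientGroup.mk_surjective (Additive.toMul a : ↥Q ⧸ Subgroup.center ↥Q)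
    change Additive.ofMul (B.conjBar c (Additive.toMul a)) = a
    rw [← hq, (key q.1 q.2).mpr (h q.1 q.2), hq]
    rfl

theorem rho_Q (B : Base z Q) {q : C} (hq : q ∈ Q) : B.rho q = 1 :=
  (B.rho_eq_one_iff q).mpr fun v hv => B.conj q hq v hv

/-- An element of odd order acting trivially lies in `Q`. -/
theorem mem_of_rho (B : Base z Q) {c : C} {n : ℕ} (hn : Odd n) (hc : c ^ n = 1)
    (h : B.rho c = 1) : c ∈ Q := by
  obtain ⟨m, rfl⟩ := hn
  have hz : c * z * c⁻¹ = z := by rw [(B.central c).eq, mul_inv_cancel_right]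
  have h2 : c * c ∈ Q := by
    refine B.self_centralizing _ fun q hq => ?_
    have hh : c * c * q * (c * c)⁻¹ = q := by
      rw [show c * c * q * (c * c)⁻¹ = c * (c * q * c⁻¹) * c⁻¹ by group]
      rcases (B.rho_eq_one_iff c).mp h q hq with e | e
      · rw [e, e]
      · rw [e, show c * (q * z) * c⁻¹ = c * q * c⁻¹ * (c * z * c⁻¹) by group, e, hz, mul_assoc, B.sq,
          mul_one]
    exact (mul_inv_eq_iff_eq_mul.mp hh).symm
  have e : c = (c * c) ^ (m + 1) := by
    rw [← pow_two, ← pow_mul, show 2 * (m + 1) = 2 * m + 1 + 1 by ring, pow_succ, hc, one_mul]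
  rw [e]
  exact pow_mem h2 _

theorem inj_rho (B : Base z Q) (c : C) :
    letI := B.barGroup
    letI := B.barModule
    Function.Injective (B.rho c) := by
  letI := B.barGroup
  letI := B.barModule
  intro a b hab
  have h := congrArg (B.rho c⁻¹) hab
  rwa [← Module.End.mul_apply, ← Module.End.mul_apply, ← map_mul, inv_mul_cancel, map_one] at h

end Base

/-- What the Janko-four type asks for inside the centraliser. -/
theorem local_conditions [Finite C] {z : C} {Q : Subgroup C} (B : Base z Q) (N M : Subgroup C)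
    [M.Normal] (hNn : N.Normal) (hQN : Q ≤ N) (hNM : N ≤ M) (hM : M.index = 2)
    (hN : Nat.card N = 3 * Nat.card Q) (hcent : ⁅M, N⁆ ≤ Q) (hperf : M ≤ ⁅M, M⁆ ⊔ Q)
    (φ : C →* AutM22) (hφ : Function.Surjective φ) (hker : ∀ c, φ c = 1 ↔ c ∈ N) :
    ∃ p ∈ N, orderOf p = 3 ∧ (∀ e ∈ Q, Commute e p → e = 1 ∨ e = z) ∧
      (∃ c, c * p * c⁻¹ ∈ Subgroup.zpowers p ∧ ¬ Commute c p) ∧
      p ∈ ⁅Subgroup.centralizer ({p} : Set C), Subgroup.centralizer ({p} : Set C)⁆ := by
  haveI := B.normal
  haveI := hNn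
  haveI : Fact (Nat.Prime 3) := ⟨Nat.prime_three⟩
  letI := B.barGroup
  letI := B.barModule
  obtain ⟨⟨p, hpN⟩, hp⟩ := exists_prime_orderOf_dvd_card' (G := ↥N) 3 (Dvd.intro _ hN.symm)
  rw [Subgroup.orderOf_mk] at hp
  have hp3 : p ^ 3 = 1 := by rw [← hp, pow_orderOf_eq_one]
  have hQpow : ∀ q ∈ Q, q ^ 2 ^ 13 = 1 := by
    intro q hq
    have := pow_card_eq_one' (x := (⟨q, hq⟩ : ↥Q))
    rw [B.card] at this
    exact congrArg Subtype.val this
  have hQp : ∀ {a : C}, a ∈ Q → a ^ 3 = 1 → a = 1 := by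
    intro a ha h3
    have h2 := orderOf_dvd_of_pow_eq_one (hQpow a ha)
    have h3' := orderOf_dvd_of_pow_eq_one h3
    exact orderOf_eq_one_iff.mp (Nat.dvd_one.mp
      ((Nat.Coprime.pow_left 13 (by norm_num) : Nat.Coprime (2 ^ 13) 3) ▸ Nat.dvd_gcd h2 h3'))
  have hpQ : p ∉ Q := fun h => by
    rw [hQp h hp3, orderOf_one] at hp
    norm_num at hp
  -- N is the product
  have hzp : Nat.card ↥(Subgroup.zpowers p) = 3 := by rw [Nat.card_zpowers, hp]
  have hNsup : Subgroup.zpowers p ⊔ Q = N := by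
    refine Subgroup.eq_of_le_of_card_ge (sup_le (Subgroup.zpowers_le.mpr hpN) hQN) (le_of_eq ?_)
    have hd : Disjoint (Subgroup.zpowers p) Q := Subgroup.disjoint_of_coprime_natCard (by
      rw [hzp, B.card]; norm_num)
    rw [Coprime.card_sup_of_disjoint (by simp [Subgroup.normalizer_eq_top Q]) hd, hzp, hN]
  -- adjusting by `Q`
  have adjust : ∀ c : C, ∃ q ∈ Q, (q * c) * p * (q * c)⁻¹ ∈ Subgroup.zpowers p := by
    intro c
    have hc : c * p * c⁻¹ ∈ N := hNn.conj_mem p hpN c
    have h3N : ¬ 3 ∣ Nat.card Q := by rw [B.card]; norm_num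
    have mk : ∀ a : C, a ∈ N → orderOf a = 3 → ∃ S : Sylow 3 ↥N,
        (S : Subgroup ↥N) = (Subgroup.zpowers a).subgroupOf N := by
      intro a ha ho
      have hcard : Nat.card ↥((Subgroup.zpowers a).subgroupOf N) = 3 := by
        rw [Nat.card_congr (Subgroup.subgroupOfEquivOfLe (Subgroup.zpowers_le.mpr ha)).toEquiv,
          Nat.card_zpowers, ho]
      refine ⟨Sylow.ofCard ((Subgroup.zpowers a).subgroupOf N) ?_, rfl⟩
      refine hcard.trans ?_
      rw [hN, Nat.factorization_mul (by norm_num) Nat.card_pos.ne']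
      simp [Nat.prime_three.factorization_self, Nat.factorization_eq_zero_of_not_dvd h3N]
    obtain ⟨S, hS⟩ := mk p hpN hp
    obtain ⟨T, hT⟩ := mk _ hc ((MulEquiv.orderOf_eq (MulAut.conj c) p).trans hp)
    obtain ⟨n, hn⟩ := MulAction.exists_smul_eq ↥N T S
    have hn' : MulAut.conj n • (T : Subgroup ↥N) = S := by rw [← hn]; rfl
    have hmem : n * ⟨c * p * c⁻¹, hc⟩ * n⁻¹ ∈ (S : Subgroup ↥N) := by
      rw [← hn']
      exact ⟨_, by rw [hT]; exact Subgroup.mem_zpowers _, rfl⟩
    rw [hS, Subgroup.mem_subgroupOf] at hmem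
    obtain ⟨y, hy, q, hq, hyq⟩ := Coprime.exists_mul_of_mem_sup
      (A := Subgroup.zpowers p) (K := Q) (by simp [Subgroup.normalizer_eq_top Q])
      (hNsup.symm ▸ n.2 : (n : C) ∈ Subgroup.zpowers p ⊔ Q)
    refine ⟨q, hq, ?_⟩
    have e : (q * c) * p * (q * c)⁻¹ = y⁻¹ * ((n : C) * (c * p * c⁻¹) * (n : C)⁻¹) * y := by
      rw [hyq]; group
    rw [e]
    exact mul_mem (mul_mem (inv_mem hy) hmem) hy
  have zcases : ∀ {a : C}, a ∈ Subgroup.zpowers p → a = 1 ∨ a = p ∨ a = p⁻¹ := by
    intro a ha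
    obtain ⟨i, rfl⟩ := Subgroup.mem_zpowers_iff.mp ha
    have hz3 : p ^ (3 : ℤ) = 1 := by exact_mod_cast hp3
    have e : p ^ i = p ^ (i % 3) := by
      conv_lhs => rw [← Int.emod_add_mul_ediv i 3, zpow_add, zpow_mul, hz3, one_zpow, mul_one]
    have hr : i % 3 = 0 ∨ i % 3 = 1 ∨ i % 3 = 2 := by omega
    rw [e]
    rcases hr with hr | hr | hr <;> rw [hr]
    · exact Or.inl (zpow_zero p)
    · exact Or.inr (Or.inl (zpow_one p))
    · refine Or.inr (Or.inr (eq_inv_of_mul_eq_one_left ?_))
      rw [← zpow_add_one]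
      exact hz3
  -- elements of M centralise p after adjustment
  let K : Subgroup C := M ⊓ Subgroup.centralizer ({p} : Set C)
  have hMK : M ≤ K ⊔ Q := by
    intro m hm
    obtain ⟨q, hq, hqm⟩ := adjust m
    have hqmM : q * m ∈ M := mul_mem (hNM (hQN hq)) hm
    have hcom : (q * m) * p * (q * m)⁻¹ * p⁻¹ ∈ Q :=
      hcent (Subgroup.commutator_mem_commutator hqmM hpN)
    have : (q * m) * p * (q * m)⁻¹ = p := by
      rcases zcases hqm with h | h | h
      · rw [h] at hcom
        exact absurd (by simpa using hcom) hpQ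
      · exact h
      · rw [h] at hcom
        exfalso
        have hpp : p * p ∈ Q := by simpa using inv_mem hcom
        refine hpQ ?_
        have e : p = (p * p) ^ 2 := by
          rw [pow_two, show p * p * (p * p) = p ^ 3 * p by simp only [pow_succ, pow_zero, one_mul, mul_assoc], hp3, one_mul]
        rw [e]
        exact pow_mem hpp 2
    have hK : q * m ∈ K := ⟨hqmM, Subgroup.mem_centralizer_singleton_iff.mpr (mul_inv_eq_iff_eq_mul.mp this)⟩
    rw [show m = q⁻¹ * (q * m) by group]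
    exact mul_mem (Subgroup.mem_sup_right (inv_mem hq)) (Subgroup.mem_sup_left hK)
  have hpK : p ∈ ⁅K, K⁆ ⊔ Q := by
    have hcomm : ⁅M, M⁆ ≤ ⁅K, K⁆ ⊔ Q := by
      have hle : M.map (QuotientGroup.mk' Q) ≤ K.map (QuotientGroup.mk' Q) := by
        refine (Subgroup.map_mono hMK).trans (le_of_eq ?_)
        rw [Subgroup.map_sup, QuotientGroup.map_mk'_self, sup_bot_eq]
      have := Subgroup.commutator_mono hle hle
      rw [← Subgroup.map_commutator, ← Subgroup.map_commutator, Subgroup.map_le_map_iff,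
        QuotientGroup.ker_mk'] at this
      exact this
    exact (hperf.trans (sup_le hcomm le_sup_right)) (hNM hpN)
  rw [sup_comm] at hpK
  obtain ⟨q₀, hq₀, k, hk, hpk⟩ := Subgroup.mem_sup_of_normal_left.mp hpK
  have hρk : B.rho k = B.rho p := by rw [← hpk, map_mul, B.rho_Q hq₀, one_mul]
  -- an element of order eleven and one inverting it
  obtain ⟨xb, ub, hxb, hux⟩ := exists_invert
  obtain ⟨x₁, rfl⟩ := hφ xb
  obtain ⟨u₁, rfl⟩ := hφ ub
  obtain ⟨qx, hqx, hx₂⟩ := adjust x₁
  obtain ⟨qu, hqu, hu₂⟩ := adjust u₁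
  have hφQ : ∀ q ∈ Q, φ q = 1 := fun q hq => (hker q).mpr (hQN hq)
  -- the element of order eleven lies in `M`
  have hx11N : x₁ ^ 11 ∈ N := by rw [← hker, map_pow, ← hxb, pow_orderOf_eq_one]
  have hx₁M : x₁ ∈ M := by
    have hsq : x₁ * x₁ ∈ M := Subgroup.mul_mem_iff_of_index_two hM |>.mpr Iff.rfl
    have h11 : x₁ ^ 11 ∈ M := hNM hx11N
    rw [show x₁ = (x₁ * x₁) ^ 6 * (x₁ ^ 11)⁻¹ by rw [← pow_two, ← pow_mul]; group]
    exact mul_mem (pow_mem hsq 6) (inv_mem h11)
  have hx₂p : Commute (qx * x₁) p := by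
    have hcom : (qx * x₁) * p * (qx * x₁)⁻¹ * p⁻¹ ∈ Q :=
      hcent (Subgroup.commutator_mem_commutator (mul_mem (hNM (hQN hqx)) hx₁M) hpN)
    rcases zcases hx₂ with h | h | h
    · rw [h] at hcom
      exact absurd (by simpa using hcom) hpQ
    · exact mul_inv_eq_iff_eq_mul.mp h
    · rw [h] at hcom
      exfalso
      have hpp : p * p ∈ Q := by simpa using inv_mem hcom
      refine hpQ ?_
      have e : p = (p * p) ^ 2 := by
        rw [pow_two, show p * p * (p * p) = p ^ 3 * p by simp only [pow_succ, pow_zero, one_mul, mul_assoc], hp3, one_mul]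
      rw [e]
      exact pow_mem hpp 2
  have hρ3 : (B.rho k) ^ 3 = 1 := by rw [hρk, ← map_pow, hp3, map_one]
  have hρ1 : B.rho k ≠ 1 := by
    rw [hρk]
    exact fun h => hpQ (B.mem_of_rho (by decide : Odd 3) hp3 h)
  -- powers of the adjusted element of order eleven
  set x := (qx * x₁) ^ (2 ^ 13 * 3 * 10) with hxdef
  have hx2N : (qx * x₁) ^ 11 ∈ N := by
    rw [← hker, map_pow, map_mul, hφQ qx hqx, one_mul, ← hxb, pow_orderOf_eq_one]
  have hNexp : ∀ n ∈ N, n ^ (2 ^ 13 * 3) = 1 := by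
    intro n hn
    have := pow_card_eq_one' (x := (⟨n, hn⟩ : ↥N))
    rw [hN, B.card, mul_comm] at this
    exact congrArg Subtype.val this
  have hx11 : x ^ 11 = 1 := by
    rw [hxdef, ← pow_mul, show 2 ^ 13 * 3 * 10 * 11 = 11 * (2 ^ 13 * 3) * 10 by norm_num, pow_mul,
      pow_mul, hNexp _ hx2N, one_pow]
  have hxp : Commute x p := hx₂p.pow_left _
  have hxM : x ∈ M := pow_mem (mul_mem (hNM (hQN hqx)) hx₁M) _
  have hφx : φ x = φ x₁ ^ (2 ^ 13 * 3 * 10) := by
    rw [hxdef, map_pow, map_mul, hφQ qx hqx, one_mul]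
  have hxne : φ x ≠ 1 := by
    rw [hφx]
    intro h
    have := orderOf_dvd_of_pow_eq_one h
    rw [hxb] at this
    norm_num at this
  have hρx : B.rho x ≠ 1 := fun h =>
    hxne ((hker x).mpr (hQN (B.mem_of_rho (by decide : Odd 11) hx11 h)))
  have hρx11 : (B.rho x) ^ 11 = 1 := by rw [← map_pow, hx11, map_one]
  haveI : Finite B.Bar := Finite.of_surjective (fun q : ↥Q =>
    Additive.ofMul (QuotientGroup.mk q : ↥Q ⧸ Subgroup.center ↥Q)) QuotientGroup.mk_surjective
  have hkK : k ∈ (commutator ↥K).map K.subtype := by rwa [Subgroup.map_subtype_commutator]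
  obtain ⟨k', hk', hk'eq⟩ := hkK
  have hcK : ∀ c : ↥K, B.rho c * B.rho k = B.rho k * B.rho c := by
    intro c
    rw [hρk, ← map_mul, ← map_mul]
    exact congrArg _ (Subgroup.mem_centralizer_singleton_iff.mp c.2.2)
  have hfix : ∀ v : B.Bar, B.rho p v = v → v = 0 := by
    intro v hv
    have hk'v : B.rho (k' : C) = B.rho k := congrArg _ hk'eq
    refine Module.fixed_eq_zero B.card_bar (B.rho.comp K.subtype) (p := k')
      (x := ⟨x, hxM, Subgroup.mem_centralizer_singleton_iff.mpr hxp.eq⟩) hk' ?_ ?_ ?_ hρx11 hρx ?_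
    · change (B.rho (k' : C)) ^ 3 = 1
      rw [hk'v, hρ3]
    · change B.rho (k' : C) ≠ 1
      rw [hk'v]; exact hρ1
    · intro c
      change B.rho (c : C) * B.rho (k' : C) = B.rho (k' : C) * B.rho (c : C)
      rw [hk'v]; exact hcK c
    · change B.rho (k' : C) v = v
      rw [hk'v, hρk]; exact hv
  have hfixQ : ∀ e ∈ Q, Commute e p → e = 1 ∨ e = z := by
    intro e he hc
    have h1 : B.conjBar p (QuotientGroup.mk ⟨e, he⟩) = QuotientGroup.mk ⟨e, he⟩ := by
      rw [B.conjBar_mk p ⟨e, he⟩ (B.normal.conj_mem _ he _)]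
      congr 1
      apply Subtype.ext
      change p * e * p⁻¹ = e
      rw [← hc.eq, mul_inv_cancel_right]
    have := hfix (Additive.ofMul (QuotientGroup.mk ⟨e, he⟩)) (congrArg Additive.ofMul h1)
    exact (B.mem_center_iff ⟨e, he⟩).mp
      ((QuotientGroup.eq_one_iff _).mp (congrArg Additive.toMul this))
  refine ⟨p, hpN, hp, hfixQ, ?_, ?_⟩
  · refine ⟨qu * u₁, hu₂, fun hup => ?_⟩
    set u := qu * u₁ with hu
    -- the relation up to the kernel, which disappears
    have hn : u * x * u⁻¹ * x ∈ N := by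
      rw [← hker, map_mul, map_mul, map_mul, map_inv, hu, map_mul, hφQ qu hqu, one_mul, hφx,
        ← conj_pow, hux, inv_pow, inv_mul_cancel]
    set n := u * x * u⁻¹ * x with hndef
    have hnp : Commute n p := ((hup.mul_left hxp).mul_left hup.inv_left).mul_left hxp
    obtain ⟨q, hq, y, hy, hqy⟩ := Subgroup.mem_sup_of_normal_left.mp
      (show n ∈ Q ⊔ Subgroup.zpowers p by rw [sup_comm, hNsup]; exact hn)
    have hyp : Commute y p := by
      obtain ⟨i, rfl⟩ := Subgroup.mem_zpowers_iff.mp hy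
      exact (Commute.refl p).zpow_left i
    have hqz : q = 1 ∨ q = z := hfixQ q hq (by
      rw [show q = n * y⁻¹ by rw [← hqy]; group]
      exact hnp.mul_left hyp.inv_left)
    have hnx : Commute n x := by
      rw [← hqy]
      refine Commute.mul_left ?_ ?_
      · rcases hqz with rfl | rfl
        · exact Commute.one_left x
        · exact (B.central x).symm
      · obtain ⟨i, rfl⟩ := Subgroup.mem_zpowers_iff.mp hy
        exact hxp.symm.zpow_left i
    have hn1 : n = 1 := by
      have e : u * x * u⁻¹ = n * x⁻¹ := by rw [hndef]; group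
      have h1 : (u * x * u⁻¹) ^ 11 = 1 := by rw [conj_pow, hx11]; group
      rw [e, (hnx.inv_right).mul_pow, inv_pow, hx11, inv_one, mul_one] at h1
      have h2 := hNexp n hn
      have hd := Nat.dvd_gcd (orderOf_dvd_of_pow_eq_one h1) (orderOf_dvd_of_pow_eq_one h2)
      exact orderOf_eq_one_iff.mp (Nat.dvd_one.mp ((show Nat.gcd 11 (2 ^ 13 * 3) = 1 by norm_num) ▸ hd))
    refine Module.not_inverted B.card_bar (B.rho p) (B.rho x) (B.rho u) ?_ hρx11 hρx ?_ (B.inj_rho u)
      ?_ ?_
    · intro v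
      refine hfix _ ?_
      have h3 : ∀ w, B.rho p (B.rho p (B.rho p w)) = w := by
        intro w
        rw [← Module.End.mul_apply, ← Module.End.mul_apply, ← map_mul, ← map_mul,
          show p * p * p = p ^ 3 by simp only [pow_succ, pow_zero, one_mul], hp3, map_one]
        rfl
      rw [map_add, map_add, h3]
      abel
    · rw [← map_mul, ← map_mul]; exact congrArg _ hxp.symm.eq
    · rw [← map_mul, ← map_mul]; exact congrArg _ hup.eq
    · rw [← map_pow, ← map_mul, ← map_mul]
      congr 1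
      have : x ^ 10 = x⁻¹ := eq_inv_of_mul_eq_one_left (by rw [← pow_succ]; exact hx11)
      rw [this]
      calc u * x = (u * x * u⁻¹ * x) * x⁻¹ * u := by group
        _ = x⁻¹ * u := by rw [← hndef, hn1, one_mul]
  · -- `p` lies in the derived subgroup of its centraliser
    set D := ⁅Subgroup.centralizer ({p} : Set C), Subgroup.centralizer ({p} : Set C)⁆ with hD
    have hkD : k ∈ D := Subgroup.commutator_mono inf_le_right inf_le_right hk
    have hkp : Commute k p :=
      Subgroup.mem_centralizer_singleton_iff.mp ((Subgroup.commutator_le_self K hk).2)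
    have hq0 : q₀ = 1 ∨ q₀ = z := hfixQ q₀ hq₀ (by
      rw [show q₀ = p * k⁻¹ by rw [← hpk]; group]
      exact (Commute.refl p).mul_left hkp.inv_left)
    rcases hq0 with h | h
    · rw [h, one_mul] at hpk
      rw [← hpk]; exact hkD
    · have h3 : z * k ^ 3 = 1 := by
        have := hp3
        rw [← hpk, h, (B.central k).symm.mul_pow] at this
        rwa [show z ^ 3 = z by rw [pow_succ, pow_two, B.sq, one_mul]] at this
      have hz : z ∈ D := by
        rw [eq_inv_of_mul_eq_one_left h3]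
        exact inv_mem (pow_mem hkD 3)
      rw [← hpk, h]
      exact mul_mem hz hkD

end Cfsg.Agent.Lib.J4Recog76
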