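import Mathlib

/-!
# Modules over the field of two elements for the triple cover of M22

`p` an element of order three centralised by a perfect group containing an element of order eleven,
acting on `2 ^ 12` vectors: `p` is fixed-point-free, and no map commuting with `p` inverts the element
of order eleven.
-/

set_option autoImplicit false
set_option linter.style.haveILetI false

namespace Cfsg.Agent.Lib.J4Recog76.Module

open Polynomial

variable {V : Type*} [AddCommGroup V] [Module (ZMod 2) V]

theorem add_self (v : V) : v + v = 0 := by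
  rw [← two_smul (ZMod 2) v, show (2 : ZMod 2) = 0 from rfl, zero_smul]

theorem eq_of_add_eq_zero {a b : V} (h : a + b = 0) : a = b := by
  have := congrArg (· + b) h
  simpa only [add_assoc, add_self, add_zero, zero_add] using this

theorem end_pow_succ_apply (x : Module.End (ZMod 2) V) (n : ℕ) (v : V) :
    (x ^ (n + 1)) v = x ((x ^ n) v) := by
  rw [pow_succ']; rfl

/-- A power of two congruent to one modulo eleven. -/
theorem two_pow_cases {k : ℕ} (hk : k ≤ 12) (h : 2 ^ k % 11 = 1) : k = 0 ∨ k = 10 := by
  interval_cases k <;> omega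

theorem exists_card [Finite V] (S : Submodule (ZMod 2) V) : ∃ k, Nat.card ↥S = 2 ^ k :=
  ⟨Module.finrank (ZMod 2) ↥S, by
    rw [Module.natCard_eq_pow_finrank (K := ZMod 2), Nat.card_zmod]⟩

theorem card_le [Finite V] (hV : Nat.card V = 2 ^ 12) (S : Submodule (ZMod 2) V) :
    Nat.card ↥S ≤ 2 ^ 12 :=
  hV ▸ Finite.card_subtype_le _

/-- An invariant subspace on which an element of order eleven has no fixed vector. -/
theorem card_fpf [Finite V] (hV : Nat.card V = 2 ^ 12) (x : Module.End (ZMod 2) V) (hx : x ^ 11 = 1)
    (S : Submodule (ZMod 2) V) (hS : ∀ v ∈ S, x v ∈ S) (hfix : ∀ v ∈ S, x v = v → v = 0)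
    (hne : ∃ v ∈ S, v ≠ 0) : Nat.card ↥S = 2 ^ 10 := by
  have hx' : ∀ v, (x ^ 11) v = v := fun v => by rw [hx]; rfl
  have hpow : ∀ (n : ℕ), ∀ v ∈ S, (x ^ n) v ∈ S := by
    intro n
    induction n with
    | zero => exact fun v hv => by simpa using hv
    | succ n ih => exact fun v hv => by rw [end_pow_succ_apply]; exact hS _ (ih v hv)
  let e : Equiv.Perm ↥S :=
    { toFun := fun v => ⟨x v, hS v v.2⟩
      invFun := fun v => ⟨(x ^ 10) v, hpow 10 v v.2⟩
      left_inv := fun v => Subtype.ext (by
        have := hx' (v : V)
        rw [pow_succ] at this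
        exact this)
      right_inv := fun v => Subtype.ext (by
        have := hx' (v : V)
        rw [end_pow_succ_apply] at this
        exact this) }
  have he : ∀ (n : ℕ) (v : ↥S), ((e ^ n) v : V) = (x ^ n) (v : V) := by
    intro n
    induction n with
    | zero => intro v; simp
    | succ n ih =>
      intro v
      rw [pow_succ', end_pow_succ_apply, ← ih v]
      rfl
  haveI : Fact (Nat.Prime 11) := ⟨by norm_num⟩
  have he11 : e ^ 11 = 1 := Equiv.ext fun v => Subtype.ext (by rw [he, hx']; rfl)
  have hpg : IsPGroup 11 ↥(Subgroup.zpowers e) := by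
    intro a
    refine ⟨1, ?_⟩
    obtain ⟨i, hi⟩ := Subgroup.mem_zpowers_iff.mp a.2
    apply Subtype.ext
    rw [SubgroupClass.coe_pow, ← hi, pow_one, ← zpow_natCast, ← zpow_mul, mul_comm, zpow_mul,
      zpow_natCast, he11, one_zpow]
    rfl
  have hmod := hpg.card_modEq_card_fixedPoints ↥S
  have hfp : Nat.card (MulAction.fixedPoints ↥(Subgroup.zpowers e) ↥S) = 1 := by
    rw [Nat.card_eq_one_iff_unique]
    refine ⟨⟨fun a b => ?_⟩, ⟨⟨0, ?_⟩⟩⟩
    · have key : ∀ c : MulAction.fixedPoints ↥(Subgroup.zpowers e) ↥S, ((c : ↥S) : V) = 0 := by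
        intro c
        refine hfix _ (c : ↥S).2 ?_
        have := c.2 ⟨e, Subgroup.mem_zpowers e⟩
        exact congrArg Subtype.val this
      exact Subtype.ext (Subtype.ext ((key a).trans (key b).symm))
    · intro a
      obtain ⟨i, hi⟩ := Subgroup.mem_zpowers_iff.mp a.2
      have hz : e (0 : ↥S) = 0 := Subtype.ext (map_zero x)
      change (a : Equiv.Perm ↥S) (0 : ↥S) = 0
      rw [← hi]
      exact (Equiv.Perm.zpow_apply_eq_self_of_apply_eq_self hz i)
  obtain ⟨k, hk⟩ := exists_card S
  have hk12 : k ≤ 12 := by
    have := card_le hV S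
    rw [hk] at this
    exact (Nat.pow_le_pow_iff_right (by norm_num)).mp this
  rw [hk, hfp] at hmod
  rcases two_pow_cases hk12 (by rw [hmod]) with h | h
  · exfalso
    obtain ⟨v, hv, hv0⟩ := hne
    have h1 : Nat.card ↥S = 1 := by rw [hk, h, pow_zero]
    obtain ⟨hss, -⟩ := Nat.card_eq_one_iff_unique.mp h1
    exact hv0 (congrArg Subtype.val (Subsingleton.elim (⟨v, hv⟩ : ↥S) 0))
  · rw [hk, h]

/-- An element of order eleven has no fixed vector among the differences `x v + v`. -/
theorem range_fpf (x : Module.End (ZMod 2) V) (hx : x ^ 11 = 1) {a : V}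
    (h : x (x a + a) = x a + a) : x a + a = 0 := by
  set v := x a + a with hv
  have hxa : x a = v + a := by rw [hv, add_assoc, add_self, add_zero]
  have key : ∀ n : ℕ, (x ^ n) a = n • v + a := by
    intro n
    induction n with
    | zero => simp
    | succ n ih =>
      rw [end_pow_succ_apply, ih, map_add, map_nsmul, h, hxa, succ_nsmul]
      abel
  have := key 11
  rw [hx] at this
  change a = 11 • v + a at this
  have h11 : (11 : ℕ) • v = v := by
    rw [show (11 : ℕ) = 2 * 5 + 1 from rfl, succ_nsmul, mul_nsmul', two_nsmul, add_self, zero_add]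
  rw [h11] at this
  simpa using this

/-- A nonzero action of an element of order eleven on an invariant subspace needs `2 ^ 10` vectors. -/
theorem card_ge [Finite V] (hV : Nat.card V = 2 ^ 12) (x : Module.End (ZMod 2) V) (hx : x ^ 11 = 1)
    (S : Submodule (ZMod 2) V) (hS : ∀ v ∈ S, x v ∈ S) (hmove : ∃ v ∈ S, x v ≠ v) :
    2 ^ 10 ≤ Nat.card ↥S := by
  let T : Submodule (ZMod 2) V := S.map (x + 1)
  have hle : T ≤ S := by
    rintro _ ⟨a, ha, rfl⟩
    exact add_mem (hS a ha) ha
  have hT : Nat.card ↥T = 2 ^ 10 := by
    refine card_fpf hV x hx T ?_ ?_ ?_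
    · rintro _ ⟨a, ha, rfl⟩
      refine ⟨x a, hS a ha, ?_⟩
      simp [map_add]
    · rintro _ ⟨a, ha, rfl⟩ h
      exact range_fpf x hx h
    · obtain ⟨v, hv, hxv⟩ := hmove
      exact ⟨_, ⟨v, hv, rfl⟩, fun h => hxv (eq_of_add_eq_zero h)⟩
  rw [← hT]
  exact Nat.card_le_card_of_injective _ (Submodule.inclusion_injective hle)

/-- No map commuting with a fixed-point-free element of order three inverts an element of order eleven
commuting with it. -/
theorem not_inverted [Finite V] (hV : Nat.card V = 2 ^ 12) (π x u : Module.End (ZMod 2) V)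
    (hπ : ∀ v, π (π v) + π v + v = 0) (hx : x ^ 11 = 1) (hx1 : x ≠ 1) (hπx : π * x = x * π)
    (hu : Function.Injective u) (huπ : u * π = π * u) (hux : u * x = x ^ 10 * u) : False := by
  let T : Submodule (ZMod 2) V := LinearMap.range (x + 1)
  have hTx : ∀ v ∈ T, x v ∈ T := by
    rintro _ ⟨a, rfl⟩
    exact ⟨x a, by simp [map_add]⟩
  have hTfix : ∀ v ∈ T, x v = v → v = 0 := by
    rintro _ ⟨a, rfl⟩ h
    exact range_fpf x hx h
  obtain ⟨a, ha⟩ : ∃ a, x a ≠ a := by
    by_contra h
    push Not at h
    exact hx1 (LinearMap.ext fun v => by simpa using h v)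
  set w := x a + a with hwdef
  have hwT : w ∈ T := ⟨a, rfl⟩
  have hw : w ≠ 0 := fun h => ha (eq_of_add_eq_zero h)
  have hTcard := card_fpf hV x hx T hTx hTfix ⟨w, hwT, hw⟩
  let φ : Polynomial (ZMod 2) →ₗ[ZMod 2] V :=
    { toFun := fun f => aeval x f w
      map_add' := fun f g => by simp
      map_smul' := fun c f => by simp }
  let R : Submodule (ZMod 2) V := LinearMap.range φ
  have hpowT : ∀ (f : Polynomial (ZMod 2)), ∀ v ∈ T, aeval x f v ∈ T := by
    intro f
    induction f using Polynomial.induction_on' with
    | add f g hf hg => intro v hv; rw [map_add, LinearMap.add_apply]; exact add_mem (hf v hv) (hg v hv)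
    | monomial n c =>
      intro v hv
      rw [aeval_monomial, Module.End.mul_apply]
      have : ∀ n : ℕ, (x ^ n) v ∈ T := by
        intro n
        induction n with
        | zero => simpa using hv
        | succ n ih => rw [end_pow_succ_apply]; exact hTx _ ih
      rw [Module.algebraMap_end_apply]
      exact T.smul_mem _ (this n)
  have hRT : R ≤ T := by
    rintro _ ⟨f, rfl⟩
    exact hpowT f w hwT
  have hRx : ∀ v ∈ R, x v ∈ R := by
    rintro _ ⟨f, rfl⟩
    exact ⟨X * f, by simp [φ]⟩
  have hR : R = T := by
    have h10 := card_fpf hV x hx R hRx (fun v hv => hTfix v (hRT hv)) ⟨w, ⟨1, by simp [φ]⟩, hw⟩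
    apply SetLike.coe_injective
    exact Set.eq_of_subset_of_ncard_le hRT
      (le_of_eq (by rw [← Nat.card_coe_set_eq, ← Nat.card_coe_set_eq]; exact hTcard.trans h10.symm))
      (Set.toFinite _)
  have hπT : π w ∈ T := by
    refine ⟨π a, ?_⟩
    have := LinearMap.congr_fun hπx a
    simp only [Module.End.mul_apply] at this
    simp [hwdef, map_add, this]
  obtain ⟨f, hf⟩ := (hR ▸ hπT : π w ∈ R)
  have hcomm : Commute π x := hπx
  have hfπ : ∀ v ∈ T, aeval x f v = π v := by
    intro v hv
    obtain ⟨g, rfl⟩ := (hR ▸ hv : v ∈ R)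
    change aeval x f (aeval x g w) = π (aeval x g w)
    have hc : Commute π (aeval x g) := by
      clear hv
      induction g using Polynomial.induction_on' with
      | add p q hp hq => rw [map_add]; exact Commute.add_right hp hq
      | monomial n c => rw [aeval_monomial]; exact (Algebra.commute_algebraMap_right c π).mul_right (hcomm.pow_right n)
    have e1 := LinearMap.congr_fun hc.eq w
    simp only [Module.End.mul_apply] at e1
    rw [e1, ← Module.End.mul_apply, ← map_mul, mul_comm, map_mul, Module.End.mul_apply]
    exact congrArg _ hf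
  have hx10 : x ^ 32 = x ^ 10 := by
    rw [show (32 : ℕ) = 11 * 2 + 10 from rfl, pow_add, pow_mul, hx, one_pow, one_mul]
  have huf : ∀ g : Polynomial (ZMod 2), u * aeval x g = (aeval x g) ^ 32 * u := by
    intro g
    have hexp : expand (ZMod 2) 32 g = g ^ 32 := by
      rw [show (32 : ℕ) = 2 * (2 * (2 * (2 * 2))) from rfl]
      simp only [expand_mul, ZMod.expand_card, map_pow, ← pow_mul]
    rw [← map_pow, ← hexp, expand_aeval, hx10]
    clear hexp
    induction g using Polynomial.induction_on' with
    | add p q hp hq => rw [map_add, map_add, mul_add, add_mul, hp, hq]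
    | monomial n c =>
      rw [aeval_monomial, aeval_monomial, ← mul_assoc, ← Algebra.commutes, mul_assoc, mul_assoc]
      congr 1
      exact (show SemiconjBy u x (x ^ 10) from hux).pow_right n
  have huw : u w ∈ T := by
    refine ⟨?_, ?_⟩
    · exact ((List.range 10).map fun i => (x ^ i) (u a)).sum
    · have h10 : u w = (x ^ 10) (u a) + u a := by
        have := LinearMap.congr_fun hux a
        simp only [Module.End.mul_apply] at this
        rw [hwdef, map_add, this]
      rw [h10]
      have key : ∀ n : ℕ, (x + 1) (((List.range n).map fun i => (x ^ i) (u a)).sum) =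
          (x ^ n) (u a) + u a := by
        intro n
        induction n with
        | zero => simp [add_self]
        | succ n ih =>
          rw [List.range_succ, List.map_append, List.sum_append, map_add, ih]
          simp only [List.map_cons, List.map_nil, List.sum_cons, List.sum_nil, add_zero,
            LinearMap.add_apply, Module.End.one_apply, end_pow_succ_apply]
          have h := add_self ((x ^ n) (u a))
          calc (x ^ n) (u a) + u a + (x ((x ^ n) (u a)) + (x ^ n) (u a))
              = x ((x ^ n) (u a)) + u a + ((x ^ n) (u a) + (x ^ n) (u a)) := by abel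
            _ = _ := by rw [h, add_zero]
      exact key 10
  have h3 : ∀ v, π (π (π v)) = v := by
    intro v
    have h1 := hπ (π v)
    have h2 := hπ v
    rw [← h2] at h1
    have : π (π (π v)) + (π (π v) + π v) = v + (π (π v) + π v) := by rw [← add_assoc, h1]; abel
    exact add_right_cancel this
  have hpow32 : ∀ n : ℕ, ∀ v ∈ T, ((aeval x f) ^ n) v = (π ^ n) v := by
    intro n
    induction n with
    | zero => simp
    | succ n ih =>
      intro v hv
      rw [pow_succ, pow_succ, Module.End.mul_apply, Module.End.mul_apply, hfπ v hv]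
      refine ih _ ?_
      rw [← hfπ v hv]
      exact hpowT f v hv
  have e1 : u (π w) = (π ^ 32) (u w) := by
    rw [← hpow32 32 _ huw]
    have := LinearMap.congr_fun (huf f) w
    simp only [Module.End.mul_apply] at this
    rw [← this, hfπ w hwT]
  have e2 : u (π w) = π (u w) := LinearMap.congr_fun huπ w
  have hπ3 : π ^ 3 = 1 := LinearMap.ext fun v => by
    simp only [pow_succ, pow_zero, one_mul, Module.End.mul_apply, Module.End.one_apply]
    exact h3 v
  have h32 : π ^ 32 = π * π := by
    rw [show (32 : ℕ) = 3 * 10 + 2 from rfl, pow_add, pow_mul, hπ3, one_pow, one_mul, pow_two]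
  rw [e2, h32, Module.End.mul_apply] at e1
  have hz := hπ (u w)
  rw [← e1, add_self, zero_add] at hz
  exact hw (hu (by rw [hz, map_zero]))

/-- Two maps commuting with a fixed-point-free element of order three commute on a set of at most four
vectors that both keep invariant. -/
theorem commute_small [Finite V] (π g h : Module.End (ZMod 2) V) (S : Submodule (ZMod 2) V)
    (hc : Nat.card ↥S ≤ 4) (hπ : ∀ v ∈ S, π (π v) + π v + v = 0) (hπS : ∀ v ∈ S, π v ∈ S)
    (hg : g * π = π * g) (hh : h * π = π * h) (hgS : ∀ v ∈ S, g v ∈ S) (hhS : ∀ v ∈ S, h v ∈ S)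
    {v : V} (hv : v ∈ S) : g (h v) = h (g v) := by
  by_cases hv0 : v = 0
  · simp [hv0]
  have hne : ∀ a ∈ S, a ≠ 0 → π a ≠ a := by
    intro a ha ha0 h'
    have := hπ a ha
    rw [h', h', add_self, zero_add] at this
    exact ha0 this
  have h1 : π v ≠ v := hne v hv hv0
  have h2 : π v ≠ 0 := by
    intro h'
    have := hπ v hv
    rw [h', map_zero, zero_add, zero_add] at this
    exact hv0 this
  classical
  haveI := Fintype.ofFinite ↥S
  let a0 : ↥S := 0
  let a1 : ↥S := ⟨v, hv⟩
  let a2 : ↥S := ⟨π v, hπS v hv⟩
  let a3 : ↥S := ⟨π v + v, add_mem (hπS v hv) hv⟩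
  have d01 : a0 ≠ a1 := fun e => hv0 (congrArg Subtype.val e).symm
  have d02 : a0 ≠ a2 := fun e => h2 (congrArg Subtype.val e).symm
  have d03 : a0 ≠ a3 := fun e => h1 (eq_of_add_eq_zero (congrArg Subtype.val e).symm)
  have d12 : a1 ≠ a2 := fun e => h1 (congrArg Subtype.val e).symm
  have d13 : a1 ≠ a3 := fun e => h2 (by
    have e' : v = π v + v := congrArg Subtype.val e
    simpa using e')
  have d23 : a2 ≠ a3 := fun e => hv0 (by
    have e' : π v = π v + v := congrArg Subtype.val e
    simpa using e')
  have huniv : ({a0, a1, a2, a3} : Finset ↥S) = Finset.univ := by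
    refine Finset.eq_univ_of_card _ (le_antisymm (Finset.card_le_univ _) ?_)
    rw [← Nat.card_eq_fintype_card]
    refine hc.trans (le_of_eq ?_)
    simp [d01, d02, d03, d12, d13, d23]
  have key : ∀ k : Module.End (ZMod 2) V, (∀ w ∈ S, k w ∈ S) →
      k v = 0 ∨ k v = v ∨ k v = π v ∨ k v = π v + v := by
    intro k hk
    have : (⟨k v, hk v hv⟩ : ↥S) ∈ ({a0, a1, a2, a3} : Finset ↥S) := by
      rw [huniv]; exact Finset.mem_univ _
    simp only [Finset.mem_insert, Finset.mem_singleton, a0, a1, a2, a3] at this
    rcases this with e | e | e | e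
    · exact Or.inl (congrArg Subtype.val e)
    · exact Or.inr (Or.inl (congrArg Subtype.val e))
    · exact Or.inr (Or.inr (Or.inl (congrArg Subtype.val e)))
    · exact Or.inr (Or.inr (Or.inr (congrArg Subtype.val e)))
  have cg : ∀ w, g (π w) = π (g w) := fun w => LinearMap.congr_fun hg w
  have ch : ∀ w, h (π w) = π (h w) := fun w => LinearMap.congr_fun hh w
  rcases key g hgS with eg | eg | eg | eg <;> rcases key h hhS with eh | eh | eh | eh <;>
    simp [eg, eh, cg, ch, map_add] <;> abel

/-- The element of order three has no fixed vector. -/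
theorem fixed_eq_zero [Finite V] (hV : Nat.card V = 2 ^ 12) {K : Type*} [Group K]
    (ρ : K →* Module.End (ZMod 2) V) {p x : K} (hp : p ∈ commutator K) (hp3 : (ρ p) ^ 3 = 1)
    (hp1 : ρ p ≠ 1) (hc : ∀ k, ρ k * ρ p = ρ p * ρ k) (hx : (ρ x) ^ 11 = 1) (hx1 : ρ x ≠ 1)
    {v : V} (hv : ρ p v = v) : v = 0 := by
  set π := ρ p with hπdef
  have hc' : ∀ (k : K) (w : V), ρ k (π w) = π (ρ k w) := fun k w => LinearMap.congr_fun (hc k) w
  let F : Submodule (ZMod 2) V := LinearMap.ker (π + 1)
  let W : Submodule (ZMod 2) V := LinearMap.range (π + 1)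
  have hF : ∀ w, w ∈ F ↔ π w = w := by
    intro w
    simp only [F, LinearMap.mem_ker, LinearMap.add_apply, Module.End.one_apply]
    exact ⟨eq_of_add_eq_zero, fun h => by rw [h, add_self]⟩
  have h3 : ∀ w, π (π (π w)) = w := fun w => by
    have := LinearMap.congr_fun hp3 w
    simpa only [pow_succ, pow_zero, one_mul, Module.End.mul_apply, Module.End.one_apply] using this
  have hW : ∀ w ∈ W, π (π w) + π w + w = 0 := by
    rintro _ ⟨a, rfl⟩
    simp only [LinearMap.add_apply, Module.End.one_apply, map_add, h3]
    calc a + π (π a) + (π (π a) + π a) + (π a + a)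
        = (a + a) + (π (π a) + π (π a)) + (π a + π a) := by abel
      _ = 0 := by simp only [add_self, add_zero]
  have hFW : ∀ w ∈ W, π w = w → w = 0 := by
    intro w hw h
    have := hW w hw
    rwa [h, h, add_self, zero_add] at this
  have hFi : ∀ (k : K), ∀ w ∈ F, ρ k w ∈ F := fun k w hw => by
    rw [hF] at hw ⊢
    rw [← hc' k w, hw]
  have hWi : ∀ (k : K), ∀ w ∈ W, ρ k w ∈ W := by
    rintro k _ ⟨a, rfl⟩
    exact ⟨ρ k a, by simp [map_add, hc']⟩
  have hcard : Nat.card ↥F * Nat.card ↥W = 2 ^ 12 := by
    have h := LinearMap.finrank_range_add_finrank_ker (π + 1)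
    rw [Module.natCard_eq_pow_finrank (K := ZMod 2) (V := V), Nat.card_zmod] at hV
    rw [Module.natCard_eq_pow_finrank (K := ZMod 2) (V := ↥F),
      Module.natCard_eq_pow_finrank (K := ZMod 2) (V := ↥W),
      Nat.card_zmod, ← pow_add, add_comm, h, hV]
  have hsplit : ∀ w : V, π (π w) + π w + w ∈ F ∧ π (π w) + π w ∈ W := by
    intro w
    refine ⟨(hF _).mpr ?_, ⟨π w, by simp⟩⟩
    simp only [map_add, h3]
    abel
  by_cases hxF : ∃ w ∈ F, ρ x w ≠ w
  · exfalso
    have h10 := card_ge hV (ρ x) hx F (hFi x) hxF
    have hW4 : Nat.card ↥W ≤ 4 := by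
      by_contra hlt
      have : 2 ^ 10 * 5 ≤ 2 ^ 12 := hcard ▸ Nat.mul_le_mul h10 (by omega)
      omega
    have hker : ∀ k ∈ commutator K, ∀ w ∈ W, ρ k w = w := by
      intro k hk
      rw [commutator_def, Subgroup.commutator_def] at hk
      induction hk using Subgroup.closure_induction with
      | mem y hy =>
        obtain ⟨g, -, h, -, rfl⟩ := hy
        intro w hw
        have hsw := commute_small π (ρ g⁻¹) (ρ h⁻¹) W hW4 hW (hWi p) (hc g⁻¹) (hc h⁻¹) (hWi _)
          (hWi _) hw
        rw [commutatorElement_def, map_mul, map_mul, map_mul, Module.End.mul_apply,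
          Module.End.mul_apply, Module.End.mul_apply, hsw]
        have cancel : ∀ (y : K) (z : V), ρ y (ρ y⁻¹ z) = z := fun y z => by
          rw [← Module.End.mul_apply, ← map_mul, mul_inv_cancel, map_one, Module.End.one_apply]
        rw [cancel, cancel]
      | one => intro w _; rw [map_one, Module.End.one_apply]
      | mul a b _ _ ha hb => intro w hw; rw [map_mul, Module.End.mul_apply, hb w hw, ha w hw]
      | inv a _ ha =>
        intro w hw
        calc ρ a⁻¹ w = ρ a⁻¹ (ρ a w) := by rw [ha w hw]
          _ = w := by rw [← Module.End.mul_apply, ← map_mul, inv_mul_cancel, map_one,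
                Module.End.one_apply]
    refine hp1 (LinearMap.ext fun w => ?_)
    rw [Module.End.one_apply]
    obtain ⟨hwF, hwW⟩ := hsplit w
    have e1 : π (π (π w) + π w) = π (π w) + π w := hker p hp _ hwW
    rw [hF, map_add, e1] at hwF
    exact (add_left_cancel hwF)
  · push Not at hxF
    obtain ⟨w, hw⟩ : ∃ w, ρ x w ≠ w := by
      by_contra h
      push Not at h
      exact hx1 (LinearMap.ext fun w => by rw [h w]; rfl)
    have hmove : ∃ u ∈ W, ρ x u ≠ u := by
      refine ⟨π (π w) + π w, (hsplit w).2, fun h => hw ?_⟩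
      have := hxF _ (hsplit w).1
      rw [map_add, h] at this
      exact add_left_cancel this
    have h10 := card_ge hV (ρ x) hx W (hWi x) hmove
    obtain ⟨k, hk⟩ := exists_card W
    obtain ⟨j, hj⟩ := exists_card F
    rw [hk] at h10
    rw [hk, hj, ← pow_add] at hcard
    have hjk := Nat.pow_right_injective le_rfl hcard
    have hk10 : 10 ≤ k := (Nat.pow_le_pow_iff_right (by norm_num)).mp h10
    -- the field of four elements
    let f : Polynomial (ZMod 2) := X ^ 2 + X + 1
    have hfdeg : f.natDegree = 2 := by simp only [f]; compute_degree!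
    have hfirr : Fact (Irreducible f) := by
      refine ⟨(irreducible_iff_roots_eq_zero_of_degree_le_three (by omega) (by omega)).mpr ?_⟩
      refine Multiset.eq_zero_of_forall_notMem fun r hr => ?_
      have := (mem_roots'.mp hr).2
      simp only [f, IsRoot.def, eval_add, eval_pow, eval_X, eval_one] at this
      have key : ∀ a : ZMod 2, a ^ 2 + a + 1 ≠ 0 := by decide
      exact key r this
    haveI := hfirr
    let πW : Module.End (ZMod 2) ↥W := π.restrict (hWi p)
    have hroot : aeval πW f = 0 := by
      refine LinearMap.ext fun u => Subtype.ext ?_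
      simp only [f, map_add, map_one, map_pow, aeval_X, LinearMap.add_apply,
        Module.End.one_apply, LinearMap.zero_apply, Submodule.coe_add, ZeroMemClass.coe_zero]
      rw [pow_two]
      exact hW u u.2
    let φ : AdjoinRoot f →+* Module.End (ZMod 2) ↥W :=
      Ideal.Quotient.lift _ (aeval πW).toRingHom (fun g hg => by
        obtain ⟨y, rfl⟩ := Ideal.mem_span_singleton.mp hg
        change aeval πW (f * y) = 0
        rw [map_mul, hroot, zero_mul])
    letI : Module (AdjoinRoot f) ↥W := Module.compHom ↥W φ
    have hω : ∀ u : ↥W, AdjoinRoot.root f • u = πW u := fun u => by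
      change φ (AdjoinRoot.root f) u = _
      change aeval πW X u = _
      rw [aeval_X]
    haveI : Finite (AdjoinRoot f) :=
      Finite.of_equiv _ (AdjoinRoot.powerBasis hfirr.out.ne_zero).basis.equivFun.toEquiv.symm
    have hF4 : Nat.card (AdjoinRoot f) = 2 ^ 2 := by
      rw [Nat.card_congr (AdjoinRoot.powerBasis hfirr.out.ne_zero).basis.equivFun.toEquiv,
        Nat.card_fun, Nat.card_zmod, Nat.card_fin]
      exact congrArg _ hfdeg
    have hd := Module.natCard_eq_pow_finrank (K := AdjoinRoot f) (V := ↥W)
    rw [hk, hF4, ← pow_mul] at hd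
    have hd' := Nat.pow_right_injective le_rfl hd
    rcases (show k = 10 ∨ k = 12 by omega) with hk' | hk'
    · exfalso
      let D : K →* (↥W →ₗ[AdjoinRoot f] ↥W) :=
        { toFun := fun g =>
            { toFun := fun u => ⟨ρ g u, hWi g u u.2⟩
              map_add' := fun a b => Subtype.ext (map_add _ _ _)
              map_smul' := fun c u => by
                obtain ⟨q, rfl⟩ := AdjoinRoot.mk_surjective c
                simp only [RingHom.id_apply]
                change (⟨ρ g (aeval πW q u : ↥W), _⟩ : ↥W) = aeval πW q ⟨ρ g u, _⟩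
                induction q using Polynomial.induction_on' generalizing u with
                | add a b ha hb =>
                  apply Subtype.ext
                  simp only [map_add, LinearMap.add_apply, Submodule.coe_add]
                  exact congrArg₂ (· + ·) (congrArg Subtype.val (ha u)) (congrArg Subtype.val (hb u))
                | monomial n c =>
                  apply Subtype.ext
                  simp only [aeval_monomial, Module.End.mul_apply, Module.algebraMap_end_apply,
                    Submodule.coe_smul, map_smul]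
                  congr 1
                  induction n with
                  | zero => simp
                  | succ n ih =>
                    rw [end_pow_succ_apply, end_pow_succ_apply]
                    change ρ g (π _) = π _
                    rw [hc']
                    exact congrArg π ih }
          map_one' := LinearMap.ext fun u => Subtype.ext (by simp)
          map_mul' := fun a b => LinearMap.ext fun u => Subtype.ext (by simp) }
      have hdet : LinearMap.det (D p) = 1 := by
        let δ : K →* AdjoinRoot f := LinearMap.det.comp D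
        exact congrArg Units.val
          (MonoidHom.mem_ker.mp (Abelianization.commutator_subset_ker δ.toHomUnits hp))
      have hDp : D p = AdjoinRoot.root f • LinearMap.id := LinearMap.ext fun u => by
        rw [LinearMap.smul_apply, LinearMap.id_apply, hω]
        rfl
      rw [hDp, LinearMap.det_smul, LinearMap.det_id, mul_one,
        show Module.finrank (AdjoinRoot f) ↥W = 5 by omega] at hdet
      have hr : (AdjoinRoot.root f) ^ 2 + AdjoinRoot.root f + 1 = 0 := by
        have := AdjoinRoot.eval₂_root f
        simpa [f, eval₂_add, eval₂_X_pow] using this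
      have htwo : (2 : AdjoinRoot f) = 0 := by
        rw [← map_ofNat (AdjoinRoot.of f) 2, show (2 : ZMod 2) = 0 from rfl, map_zero]
      have h31 : (AdjoinRoot.root f) ^ 3 = 1 := by linear_combination (AdjoinRoot.root f - 1) * hr
      have h21 : (AdjoinRoot.root f) ^ 2 = 1 := by
        rw [pow_add _ 3 2, h31, one_mul] at hdet
        exact hdet
      have h0 : AdjoinRoot.root f = 0 := by linear_combination hr - h21 - htwo
      rw [h0] at h21
      simp at h21
    · have hj0 : j = 0 := by omega
      have h1 : Nat.card ↥F = 1 := by rw [hj, hj0, pow_zero]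
      obtain ⟨hss, -⟩ := Nat.card_eq_one_iff_unique.mp h1
      exact congrArg Subtype.val (Subsingleton.elim (⟨v, (hF v).mpr hv⟩ : ↥F) 0)

end Cfsg.Agent.Lib.J4Recog76.Module
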