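import Cfsg.Agent.Lib.J4Recog76.Local
import Cfsg.Agent.Lib.J4Local.Setting
import Cfsg.Agent.Lib.J4Local.AutFacts
import Cfsg.Agent.Lib.Cores.Basic
import Cfsg.Agent.Lib.FusionP3.GenExtra.Iso

/-!
# The centraliser hypotheses of S1646 give Janko-four type
-/

set_option autoImplicit false
set_option linter.style.haveILetI false

namespace Cfsg.Agent.Lib.J4Recog76

open Cfsg Cfsg.Agent.Lib.J4Local
open Cfsg.Agent.Lib.LargeExtraspecial.Basic
open scoped commutatorElement

section Quotient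

variable {C : Type*} [Group C]

/-- A normal subgroup of index two acting on a quotient isomorphic to M22. -/
theorem exists_phi [Finite C] (N M : Subgroup C) [N.Normal] [M.Normal] (hNM : N ≤ M) (hM : M.index = 2)
    (hout : ∀ c : C, (∀ m ∈ M, c * m * c⁻¹ * m⁻¹ ∈ N) → c ∈ M)
    (e : (↥M ⧸ N.subgroupOf M) ≃* ↥Spor.M22) :
    ∃ φ : C →* AutM22, Function.Surjective φ ∧ ∀ c, φ c = 1 ↔ c ∈ N := by
  have hmap : ∀ c : C, (N.subgroupOf M) ≤ (N.subgroupOf M).comap (MulAut.conjNormal c).toMonoidHom :=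
    fun c m hm => by
      change c * m * c⁻¹ ∈ N
      exact Subgroup.Normal.conj_mem (H := N) inferInstance _ hm c
  let f : C → (↥M ⧸ N.subgroupOf M) →* (↥M ⧸ N.subgroupOf M) := fun c =>
    QuotientGroup.map _ _ (MulAut.conjNormal c).toMonoidHom (hmap c)
  have hmk : ∀ (c : C) (m : ↥M), f c (QuotientGroup.mk m) = QuotientGroup.mk (MulAut.conjNormal c m) :=
    fun _ _ => rfl
  have f_one : ∀ a, f 1 a = a := fun a => by
    induction a using QuotientGroup.induction_on with | H m => ?_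
    rw [hmk, map_one]; rfl
  have f_mul : ∀ c d a, f (c * d) a = f c (f d a) := fun c d a => by
    induction a using QuotientGroup.induction_on with | H m => ?_
    rw [hmk, hmk, hmk, map_mul]; rfl
  let φ : C →* AutM22 :=
    { toFun := fun c =>
        { toFun := fun a => e (f c (e.symm a))
          invFun := fun a => e (f c⁻¹ (e.symm a))
          left_inv := fun a => by simp [← f_mul, f_one]
          right_inv := fun a => by simp [← f_mul, f_one]
          map_mul' := fun a b => by simp }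
      map_one' := MulEquiv.ext fun a => by simp [f_one]
      map_mul' := fun c d => MulEquiv.ext fun a => by simp [f_mul] }
  have hker : ∀ c, φ c = 1 ↔ c ∈ N := by
    intro c
    constructor
    · intro h
      have h1 : ∀ m : ↥M, (c * m * c⁻¹ * (m : C)⁻¹) ∈ N := by
        intro m
        have := DFunLike.congr_fun h (e (QuotientGroup.mk m))
        simp only [φ, MonoidHom.coe_mk, OneHom.coe_mk, MulEquiv.coe_mk, Equiv.coe_fn_mk,
          MulEquiv.symm_apply_apply, MulAut.one_apply, EmbeddingLike.apply_eq_iff_eq] at this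
        rw [hmk, QuotientGroup.eq_iff_div_mem, Subgroup.mem_subgroupOf, div_eq_mul_inv] at this
        exact this
      have hcM : c ∈ M := hout c fun m hm => h1 ⟨m, hm⟩
      have hc : (QuotientGroup.mk ⟨c, hcM⟩ : ↥M ⧸ N.subgroupOf M) ∈ Subgroup.center _ := by
        rw [Subgroup.mem_center_iff]
        intro g
        induction g using QuotientGroup.induction_on with | H m => ?_
        rw [← QuotientGroup.mk_mul, ← QuotientGroup.mk_mul, QuotientGroup.eq_iff_div_mem,
          Subgroup.mem_subgroupOf, div_eq_mul_inv]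
        have := inv_mem (h1 m)
        simp only [mul_inv_rev, inv_inv] at this
        simpa [mul_assoc] using this
      have : e (QuotientGroup.mk ⟨c, hcM⟩) ∈ Subgroup.center ↥Spor.M22 := by
        rw [Subgroup.mem_center_iff] at hc ⊢
        intro g
        obtain ⟨g, rfl⟩ := e.surjective g
        rw [← map_mul, hc g, map_mul]
      rw [AutModel.center_eq_bot, Subgroup.mem_bot, map_eq_one_iff e e.injective,
        QuotientGroup.eq_one_iff, Subgroup.mem_subgroupOf] at this
      exact this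
    · intro hc
      refine MulEquiv.ext fun a => ?_
      obtain ⟨a, rfl⟩ := e.surjective a
      induction a using QuotientGroup.induction_on with | H m => ?_
      simp only [φ, MonoidHom.coe_mk, OneHom.coe_mk, MulEquiv.coe_mk, Equiv.coe_fn_mk,
        MulEquiv.symm_apply_apply, MulAut.one_apply, EmbeddingLike.apply_eq_iff_eq]
      rw [hmk, QuotientGroup.eq_iff_div_mem, Subgroup.mem_subgroupOf, div_eq_mul_inv]
      change c * m * c⁻¹ * (m : C)⁻¹ ∈ N
      rw [show c * (m : C) * c⁻¹ * (m : C)⁻¹ = c * ((m : C) * c⁻¹ * (m : C)⁻¹) by group]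
      exact mul_mem hc (Subgroup.Normal.conj_mem (H := N) inferInstance _ (inv_mem hc) _)
  refine ⟨φ, ?_, hker⟩
  rw [← MonoidHom.range_eq_top]
  refine Subgroup.eq_top_of_card_eq _ ?_
  have hkerN : φ.ker = N := Subgroup.ext fun c => by rw [MonoidHom.mem_ker]; exact hker c
  have hidx : N.index = 887040 := by
    rw [← Subgroup.relIndex_mul_index hNM, hM]
    have : N.relIndex M = 443520 := by
      rw [Subgroup.relIndex, Subgroup.index_eq_card, Nat.card_congr e.toEquiv, Golay.card_spor_M22]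
    rw [this]
  rw [← Subgroup.index_ker, hkerN, hidx, AutModel.card_autM22]

/-- The largest normal 2-subgroup is the given extraspecial group. -/
theorem pCore_eq [Finite C] (Q N M : Subgroup C) [Q.Normal] [N.Normal] [M.Normal] (hQN : Q ≤ N)
    (hQ2 : IsPGroup 2 ↥Q) (hcard : Nat.card Q = 2 ^ 13)
    (hN : Nat.card N = 3 * Nat.card Q) (hout : ∀ c : C, (∀ m ∈ M, c * m * c⁻¹ * m⁻¹ ∈ N) → c ∈ M)
    (e : (↥M ⧸ N.subgroupOf M) ≃* ↥Spor.M22) : pCore 2 C = Q := by
  set R := pCore 2 C with hR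
  haveI hRn : R.Normal := pCore_normal 2 C
  have hR2 : IsPGroup 2 ↥R := Cores.pCore_isPGroup 2
  refine le_antisymm ?_ (le_sSup ⟨inferInstance, hQ2⟩)
  haveI : Fact (Nat.Prime 2) := ⟨Nat.prime_two⟩
  haveI : IsSimpleGroup ↥Spor.M22 := AutModel.isSimple
  haveI : Nontrivial (↥M ⧸ N.subgroupOf M) := e.toEquiv.nontrivial
  haveI : IsSimpleGroup (↥M ⧸ N.subgroupOf M) :=
    IsSimpleGroup.isSimpleGroup_of_surjective e.symm.toMonoidHom e.symm.surjective
  have hRM : R ⊓ M ≤ N := by
    let π := QuotientGroup.mk' (N.subgroupOf M)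
    have hn : ((R.subgroupOf M).map π).Normal :=
      Subgroup.Normal.map inferInstance π (QuotientGroup.mk'_surjective _)
    rcases Subgroup.Normal.eq_bot_or_eq_top hn with h | h
    · intro x hx
      have : π ⟨x, hx.2⟩ ∈ (R.subgroupOf M).map π := ⟨⟨x, hx.2⟩, hx.1, rfl⟩
      rw [h, Subgroup.mem_bot] at this
      exact (QuotientGroup.eq_one_iff (N := N.subgroupOf M) _).mp this
    · exfalso
      have hp : IsPGroup 2 ↥((R.subgroupOf M).map π) :=
        IsPGroup.map (IsPGroup.comap_subtype hR2) π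
      rw [h] at hp
      obtain ⟨k, hk⟩ := IsPGroup.iff_card.mp (hp.of_equiv (Subgroup.topEquiv.trans e))
      rw [Golay.card_spor_M22] at hk
      have : (3 : ℕ) ∣ 2 ^ k := by rw [← hk]; norm_num
      exact absurd (Nat.prime_three.dvd_of_dvd_pow this) (by norm_num)
  have hRle : R ≤ M := by
    intro r hr
    refine hout r fun m hm => hRM (Subgroup.mem_inf.mpr ⟨?_, ?_⟩)
    · rw [show r * m * r⁻¹ * m⁻¹ = r * (m * r⁻¹ * m⁻¹) by group]
      exact mul_mem hr (hRn.conj_mem _ (inv_mem hr) m)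
    · exact mul_mem (Subgroup.Normal.conj_mem (H := M) inferInstance m hm r) (inv_mem hm)
  have hRN : R ≤ N := fun r hr => hRM ⟨hr, hRle hr⟩
  have hQR : Q ≤ R := le_sSup ⟨inferInstance, hQ2⟩
  obtain ⟨k, hk⟩ := IsPGroup.iff_card.mp hR2
  have hdvd : 2 ^ k ∣ 3 * 2 ^ 13 := hk ▸ hcard ▸ hN ▸ Subgroup.card_dvd_of_le hRN
  have h2 : 2 ^ k ∣ 2 ^ 13 :=
    (Nat.Coprime.dvd_mul_left (Nat.Coprime.pow_left k (by norm_num))).mp hdvd
  refine (Subgroup.eq_of_le_of_card_ge hQR ?_).ge
  rw [hk, hcard]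
  exact Nat.le_of_dvd (by norm_num) h2

end Quotient

variable {G : Type*} [Group G] [Finite G]

/-- The hypotheses of S1646 give Janko-four type. -/
theorem isOfJankoFourTypeAt (t : G) (ht : orderOf t = 2)
    (Q N M : Subgroup (Subgroup.centralizer ({t} : Set G))) [hQn : Q.Normal] [hNn : N.Normal] [M.Normal]
    (hQN : Q ≤ N) (hNM : N ≤ M) (hM : M.index = 2) (hQ : Cfsg.IsExtraspecial 2 Q)
    (hcard : Nat.card Q = 2 ^ 13) (hN : Nat.card N = 3 * Nat.card Q) (hcent : ⁅M, N⁆ ≤ Q)
    (hperf : M ≤ ⁅M, M⁆ ⊔ Q)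
    (h2c : Subgroup.centralizer (Q : Set (Subgroup.centralizer ({t} : Set G))) ≤ Q)
    (hout : ∀ c : Subgroup.centralizer ({t} : Set G), (∀ m ∈ M, c * m * c⁻¹ * m⁻¹ ∈ N) → c ∈ M)
    (e : (↥M ⧸ N.subgroupOf M) ≃* ↥Spor.M22) : Cfsg.IsOfJankoFourTypeAt t := by
  have hsq : t * t = 1 := by rw [← sq, ← ht, pow_orderOf_eq_one]
  set tC : ↥(cz t) := ⟨t, mem_cz.mpr (Commute.refl t)⟩ with htC
  have hcore : pCore 2 ↥(cz t) = Q := pCore_eq Q N M hQN hQ.1.1 hcard hN hout e
  have hQeq : Cfsg.twoCoreOfCentralizer t = Q.map (cz t).subtype := by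
    rw [← hcore]; rfl
  have hiso : ↥Q ≃* ↥(Cfsg.twoCoreOfCentralizer t) := by
    rw [hQeq]
    exact Q.equivMapOfInjective _ (cz t).subtype_injective
  have hE : Cfsg.IsExtraspecial 2 ↥(Cfsg.twoCoreOfCentralizer t) := FusionP3.GenExtra.isExtraspecial_congr hiso hQ
  have hes : ES (J4Local.Q t) t := es_base J4Local.isQ ht hE
  have hmem : ∀ {a : ↥(cz t)}, a ∈ Q → (a : G) ∈ J4Local.Q t := fun {a} ha => by
    change (a : G) ∈ Cfsg.twoCoreOfCentralizer t
    rw [hQeq]; exact Subgroup.mem_map_of_mem _ ha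
  have hback : ∀ {a : G}, a ∈ J4Local.Q t → ∃ b ∈ Q, (b : G) = a := fun {a} ha => by
    have ha' : a ∈ Cfsg.twoCoreOfCentralizer t := ha
    rw [hQeq] at ha'
    obtain ⟨b, hb, hb'⟩ := ha'
    exact ⟨b, hb, hb'⟩
  have B : Base tC Q := by
    refine ⟨hQn, fun c => Subtype.ext (mem_cz.mp c.2).eq, ?_, Subtype.ext hsq, hcard, ?_, ?_, ?_, ?_, hQ.2⟩
    · obtain ⟨b, hb, hb'⟩ := hback hes.mem
      rwa [show tC = b from Subtype.ext hb'.symm]
    · intro q hq h
      rcases hes.center q (hmem hq) (fun p hp => by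
        obtain ⟨b, hb, rfl⟩ := hback hp
        exact congrArg Subtype.val (h b hb).eq) with h1 | h1
      · exact Or.inl (Subtype.ext h1)
      · exact Or.inr (Subtype.ext h1)
    · intro q hq v hv
      rcases hes.conj q (hmem hq) v (hmem hv) with h1 | h1
      · exact Or.inl (Subtype.ext h1)
      · exact Or.inr (Subtype.ext h1)
    · intro q hq
      rcases hes.sq_cases (hmem hq) with h1 | h1
      · exact Or.inl (Subtype.ext h1)
      · exact Or.inr (Subtype.ext h1)
    · intro c hc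
      exact h2c (Subgroup.mem_centralizer_iff.mpr fun q hq => (hc q hq).eq)
  obtain ⟨φ, hφ, hker⟩ := exists_phi N M hNM hM hout e
  obtain ⟨p, hpN, hp, hfix, ⟨c, hc, hcp⟩, hder⟩ :=
    local_conditions B N M hNn hQN hNM hM hN hcent hperf φ hφ hker
  have hzp : Subgroup.centralizer ((Subgroup.zpowers (p : G) : Subgroup G) : Set G) =
      Subgroup.centralizer ({(p : G)} : Set G) := by
    rw [Subgroup.zpowers_eq_closure, Subgroup.centralizer_closure]
  have hCp : cz t ⊓ Subgroup.centralizer ({(p : G)} : Set G) =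
      (Subgroup.centralizer ({p} : Set ↥(cz t))).map (cz t).subtype := by
    ext x
    constructor
    · rintro ⟨hx1, hx2⟩
      exact ⟨⟨x, hx1⟩, Subgroup.mem_centralizer_singleton_iff.mpr
        (Subtype.ext (Subgroup.mem_centralizer_singleton_iff.mp hx2)), rfl⟩
    · rintro ⟨y, hy, rfl⟩
      exact ⟨y.2, Subgroup.mem_centralizer_singleton_iff.mpr
        (congrArg Subtype.val (Subgroup.mem_centralizer_singleton_iff.mp hy))⟩
  refine ⟨Subgroup.zpowers (p : G), ht, hE, ?_, ?_,
    ⟨N.map (cz t).subtype, ?_, Subgroup.map_subtype_le N, ?_, ?_, ?_, ?_⟩, ?_, ?_, ?_, ?_⟩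
  · rw [← hcard]; exact Nat.card_congr hiso.symm.toEquiv
  · rintro x ⟨hx1, hx2⟩
    have : (⟨x, hx1⟩ : ↥(cz t)) ∈ Q := B.self_centralizing _ fun q hq =>
      Subtype.ext (Subgroup.mem_centralizer_iff.mp hx2 q (hmem hq))
    exact hmem this
  · rw [hQeq]; exact Subgroup.map_mono hQN
  · intro g hg
    rw [Subgroup.mem_normalizer_iff]
    intro n
    constructor
    · rintro ⟨m, hm, rfl⟩
      exact ⟨⟨g, hg⟩ * m * ⟨g, hg⟩⁻¹, hNn.conj_mem m hm _, rfl⟩
    · rintro ⟨m, hm, hm'⟩
      refine ⟨⟨g, hg⟩⁻¹ * m * ⟨g, hg⟩, by simpa using hNn.conj_mem m hm ⟨g, hg⟩⁻¹, ?_⟩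
      change g⁻¹ * (cz t).subtype m * g = n
      rw [hm']; group
  · rw [Nat.card_congr (N.equivMapOfInjective _ (cz t).subtype_injective).symm.toEquiv, hN,
      Nat.card_congr hiso.symm.toEquiv]
  · rw [Subgroup.subgroupOf, Subgroup.comap_map_eq_self_of_injective (cz t).subtype_injective]
    exact ⟨hNn, ⟨(QuotientGroup.quotientMulEquivOfEq (Subgroup.ext fun x => by
      rw [MonoidHom.mem_ker]; exact (hker x).symm : N = φ.ker)).trans
        (QuotientGroup.quotientKerEquivOfSurjective φ hφ)⟩⟩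
  · exact Subgroup.zpowers_le.mpr ⟨p, hpN, rfl⟩
  · rw [Nat.card_zpowers, Subgroup.orderOf_coe, hp]
  · rw [hzp]
    refine le_antisymm ?_ ?_
    · rintro x ⟨hx1, hx2⟩
      obtain ⟨b, hb, rfl⟩ := hback hx1
      rcases hfix b hb (Subtype.ext (Subgroup.mem_centralizer_singleton_iff.mp hx2)) with h | h <;> rw [h]
      · exact one_mem _
      · exact Subgroup.mem_zpowers t
    · rw [Subgroup.zpowers_le]
      exact ⟨hes.mem, Subgroup.mem_centralizer_singleton_iff.mpr (mem_cz.mp p.2).eq.symm⟩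
  · intro heq
    have hcn : (c : G) ∈ Subgroup.normalizer ((Subgroup.zpowers (p : G) : Subgroup G) : Set G) := by
      refine Coprime.mem_normalizer_of_conj_smul_eq ?_
      rw [Coprime.conj_smul_eq_map, MonoidHom.map_zpowers]
      refine Subgroup.eq_of_le_of_card_ge (Subgroup.zpowers_le.mpr ?_) ?_
      · obtain ⟨i, hi⟩ := Subgroup.mem_zpowers_iff.mp hc
        exact ⟨i, congrArg Subtype.val hi⟩
      · rw [Nat.card_zpowers, Nat.card_zpowers, MulEquiv.coe_toMonoidHom, MulEquiv.orderOf_eq]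
    have hmem' : (c : G) ∈ cz t ⊓ Subgroup.centralizer ((Subgroup.zpowers (p : G) : Subgroup G) : Set G) :=
      heq ▸ ⟨c.2, hcn⟩
    rw [hzp] at hmem'
    exact hcp (Subtype.ext (Subgroup.mem_centralizer_singleton_iff.mp hmem'.2))
  · rw [hzp]
    change Subgroup.zpowers (p : G) ≤ ⁅cz t ⊓ Subgroup.centralizer ({(p : G)} : Set G),
      cz t ⊓ Subgroup.centralizer ({(p : G)} : Set G)⁆
    rw [hCp, ← Subgroup.map_commutator, Subgroup.zpowers_le]
    exact Subgroup.mem_map_of_mem _ hder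

end Cfsg.Agent.Lib.J4Recog76
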