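import Cfsg.Agent.Lib.J4Recog76.Reduce
import Cfsg.Agent.Lib.J4Recog76.Classes
import Cfsg.Prelude.Def_Sporadic

/-!
# S1646 from the order of a group of Janko-four type

The statements of S5567 to S5569 and the order are hypotheses.
-/

set_option autoImplicit false
set_option linter.style.haveILetI false

namespace Cfsg.Agent.Lib.J4Recog76

open Cfsg

/-- A group with the centraliser hypotheses is not abelian. -/
theorem not_comm {G : Type*} [Group G] [Finite G] [IsSimpleGroup G] (t : G)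
    (Q : Subgroup (Subgroup.centralizer ({t} : Set G))) (hcard : Nat.card Q = 2 ^ 13) :
    ¬ IsMulCommutative G := by
  intro hc
  haveI := hc
  letI : CommGroup G := IsMulCommutative.instCommGroup
  have hp : (Nat.card G).Prime := IsSimpleGroup.prime_card
  have h2 : 2 ^ 13 ∣ Nat.card G := hcard ▸ (Subgroup.card_subgroup_dvd_card Q).trans
    (Subgroup.card_subgroup_dvd_card _)
  have h := (Nat.prime_dvd_prime_iff_eq Nat.prime_two hp).mp ((dvd_pow_self 2 (by norm_num)).trans h2)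
  rw [← h] at h2
  norm_num at h2

/-- The conclusion of S1646. -/
theorem row1646_of {G : Type*} [Group G] [Finite G] [IsSimpleGroup G] (t : G) (ht : orderOf t = 2)
    (Q N M : Subgroup (Subgroup.centralizer ({t} : Set G))) [Q.Normal] [N.Normal] [M.Normal]
    (hQN : Q ≤ N) (hNM : N ≤ M) (hM : M.index = 2) (hQ : Cfsg.IsExtraspecial 2 Q)
    (hcard : Nat.card Q = 2 ^ 13) (hN : Nat.card N = 3 * Nat.card Q) (hcent : ⁅M, N⁆ ≤ Q)
    (hperf : M ≤ ⁅M, M⁆ ⊔ Q)
    (h2c : Subgroup.centralizer (Q : Set (Subgroup.centralizer ({t} : Set G))) ≤ Q)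
    (hout : ∀ c : Subgroup.centralizer ({t} : Set G), (∀ m ∈ M, c * m * c⁻¹ * m⁻¹ ∈ N) → c ∈ M)
    (hM22 : Cfsg.Spor.IsoM22 (M ⧸ N.subgroupOf M))
    (h5567 : ∀ V : Subgroup G, Cfsg.IsElementaryAbelian 2 V → Nat.card ↥V = 2 ^ 11 →
      Subgroup.centralizer (V : Set G) ≤ V)
    (h5568 : Cfsg.IsOfJankoFourTypeAt t → ∀ V : Subgroup G, Cfsg.IsElementaryAbelian 2 V →
      Nat.card ↥V = 2 ^ 11 →
      ∃ z' u : G, z' ∈ V ∧ u ∈ V ∧ u ≠ 1 ∧ IsConj t z' ∧ ¬ IsConj t u ∧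
        Set.ncard {v : G | ∃ n ∈ Subgroup.normalizer (V : Set G), n * z' * n⁻¹ = v} = 1771 ∧
        Set.ncard {v : G | ∃ n ∈ Subgroup.normalizer (V : Set G), n * u * n⁻¹ = v} = 276)
    (h5569 : Cfsg.IsOfJankoFourTypeAt t → ∀ u : G, orderOf u = 2 → ¬ IsConj t u →
      ∃ V : Subgroup G, V ≤ Subgroup.centralizer ({u} : Set G) ∧ Cfsg.IsElementaryAbelian 2 V ∧
        Nat.card ↥V = 2 ^ 11)
    (horder : ¬ IsMulCommutative G → Cfsg.IsOfJankoFourTypeAt t →
      Nat.card G = 86775571046077562880) :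
    Cfsg.IsJ4 G ∧ ∃ x y : G, orderOf x = 2 ∧ orderOf y = 2 ∧ ¬ IsConj x y ∧
      ∀ z : G, orderOf z = 2 → IsConj z x ∨ IsConj z y := by
  obtain ⟨e⟩ := hM22
  have hJ := isOfJankoFourTypeAt t ht Q N M hQN hNM hM hQ hcard hN hcent hperf h2c hout e
  have hG := not_comm t Q hcard
  exact ⟨⟨inferInstance, horder hG hJ⟩, two_classes hG ht hJ h5567 (h5568 hJ) (h5569 hJ)⟩

end Cfsg.Agent.Lib.J4Recog76
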